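import Cfsg.Agent.Lib.Recog.SporBound.Sound
import Cfsg.Agent.Lib.Recog.SporBound.SpiderC1.Tree0

set_option autoImplicit false
set_option maxRecDepth 20000

/-! Generated closure certificate: Spider relation inside the Y522 quotient (owner: helper21). -/

namespace CfsgLib.Recog.SporBound.SpiderC1
open CfsgLib.Recog.SporBound

noncomputable def factTree : Q (ℕ) := ft0
noncomputable def nodeTree : Q (ℕ) := ct0
noncomputable def stepTree : Q (List ℕ) := st0
noncomputable def finalTree : Q (List ℕ) := et0

/-- The certificate. -/
noncomputable def cert : Cert where
  n := 6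
  nd := 5
  nf := 6
  kl := [0, 1]
  facts := factTree
  cn := nodeTree
  steps := stepTree
  finals := finalTree
  rels := [[0, 0], [1, 1], [0, 1, 0, 1, 0, 1]]
  subs := []

/-- Chains of the traced words. -/
noncomputable def closers : List ℕ := []

end CfsgLib.Recog.SporBound.SpiderC1
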